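import Groth.Agent.EGA41Lib.Separable
import Mathlib

/-!
# Uniqueness of coefficient fields
-/

set_option autoImplicit false
universe u

open IsLocalRing

namespace Groth.Agent.CoeffFieldUniq

variable {C : Type u} [CommRing C] [IsLocalRing C]

theorem eq_of_subsingleton [IsHausdorff (maximalIdeal C) C] (u v : ResidueField C →+* C)
    (hu : ∀ x, residue C (u x) = x) (hv : ∀ x, residue C (v x) = x)
    [hΩ : Subsingleton (Ω[ResidueField C⁄ℤ])] : v = u := by
  have key : ∀ n x, v x - u x ∈ maximalIdeal C ^ (n + 1) := by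
    intro n
    induction n with
    | zero =>
      intro x
      rw [zero_add, pow_one, ← residue_eq_zero_iff, map_sub, hu, hv, sub_self]
    | succ n ih =>
      let m' := maximalIdeal C ^ (n + 2)
      let φ : ResidueField C →+* C ⧸ m' := (Ideal.Quotient.mk m').comp u
      letI : Module (ResidueField C) (EGA41Lib.Bare (C ⧸ m')) :=
        letI : Module (ResidueField C) (C ⧸ m') := Module.compHom (C ⧸ m') φ
        ‹Module (ResidueField C) (C ⧸ m')›
      haveI : @IsScalarTower ℤ (ResidueField C) (EGA41Lib.Bare (C ⧸ m')) Algebra.toSMul _ _ :=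
        ⟨fun a b c => by
          rw [Algebra.smul_def, eq_intCast, mul_smul, Int.cast_smul_eq_zsmul]⟩
      let δ₀ : ResidueField C →+ EGA41Lib.Bare (C ⧸ m') :=
        (((Ideal.Quotient.mk m').comp v).toAddMonoidHom - φ.toAddMonoidHom :
          ResidueField C →+ C ⧸ m')
      let δ : Derivation ℤ (ResidueField C) (EGA41Lib.Bare (C ⧸ m')) :=
        Derivation.mk' δ₀.toIntLinearMap fun x y => by
          change Ideal.Quotient.mk m' (v (x * y)) - Ideal.Quotient.mk m' (u (x * y)) =
            Ideal.Quotient.mk m' (u x) * (Ideal.Quotient.mk m' (v y) - Ideal.Quotient.mk m' (u y)) +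
              Ideal.Quotient.mk m' (u y) * (Ideal.Quotient.mk m' (v x) - Ideal.Quotient.mk m' (u x))
          have h0 : Ideal.Quotient.mk m' ((v x - u x) * (v y - u y)) = 0 := by
            rw [Ideal.Quotient.eq_zero_iff_mem]
            refine Ideal.pow_le_pow_right (show n + 2 ≤ (n + 1) + (n + 1) by omega) ?_
            rw [pow_add]
            exact Ideal.mul_mem_mul (ih x) (ih y)
          simp only [map_mul, map_sub] at h0 ⊢
          linear_combination h0
      intro x
      rw [← Ideal.Quotient.eq_zero_iff_mem, map_sub]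
      have h := δ.liftKaehlerDifferential_comp_D x
      rw [Subsingleton.elim (KaehlerDifferential.D ℤ (ResidueField C) x) 0, map_zero] at h
      exact h.symm
  refine RingHom.ext fun x => (IsHausdorff.eq_iff_smodEq (I := maximalIdeal C)).2 fun n => ?_
  rw [SModEq.sub_mem, smul_eq_mul, Ideal.mul_top]
  exact Ideal.pow_le_pow_right (Nat.le_succ n) (key n x)

theorem subsingleton_of_unique [IsNoetherianRing C] [IsAdicComplete (maximalIdeal C) C]
    (hm : maximalIdeal C ≠ ⊥) (u : ResidueField C →+* C) (hu : ∀ x, residue C (u x) = x)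
    (huniq : ∀ v : ResidueField C →+* C, (∀ x, residue C (v x) = x) → v = u) :
    Subsingleton (Ω[ResidueField C⁄ℤ]) := by
  by_contra hΩ
  rw [not_subsingleton_iff_nontrivial] at hΩ
  obtain ⟨ω, hω⟩ := exists_ne (0 : Ω[ResidueField C⁄ℤ])
  obtain ⟨φ, hφ⟩ := Module.Projective.exists_dual_ne_zero (ResidueField C) hω
  obtain ⟨x₀, hx₀⟩ : ∃ x, φ (KaehlerDifferential.D ℤ (ResidueField C) x) ≠ 0 := by
    by_contra hcon
    push Not at hcon
    have : φ = 0 := LinearMap.ext_on (KaehlerDifferential.span_range_derivation ℤ _) (by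
      rintro _ ⟨x, rfl⟩
      exact hcon x)
    exact hφ (by rw [this]; rfl)
  obtain ⟨t, ht, ht2⟩ : ∃ t ∈ maximalIdeal C, t ∉ maximalIdeal C ^ 2 := by
    by_contra hcon
    push Not at hcon
    refine hm (Submodule.eq_bot_of_le_smul_of_le_jacobson_bot (maximalIdeal C) _
      (IsNoetherian.noetherian _) ?_ ?_)
    · rw [smul_eq_mul, ← pow_two]
      exact hcon
    · rw [IsLocalRing.jacobson_eq_maximalIdeal _ bot_ne_top]
  let D' : ResidueField C → ResidueField C := fun x => φ (KaehlerDifferential.D ℤ _ x)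
  let mk2 := Ideal.Quotient.mk (maximalIdeal C ^ (0 + 2))
  have htt : mk2 t * mk2 t = 0 := by
    rw [← map_mul, Ideal.Quotient.eq_zero_iff_mem, zero_add, pow_two]
    exact Ideal.mul_mem_mul ht ht
  let g : ResidueField C →+* C ⧸ maximalIdeal C ^ (0 + 2) :=
    { toFun := fun x => mk2 (u x) + mk2 (u (D' x)) * mk2 t
      map_one' := by
        simp only [D', Derivation.map_one_eq_zero, map_zero, zero_mul, add_zero, map_one]
      map_mul' := fun x y => by
        simp only [D', Derivation.leibniz, map_add, LinearMap.map_smul, smul_eq_mul, map_mul]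
        linear_combination (-(mk2 (u (φ (KaehlerDifferential.D ℤ _ x))) *
          mk2 (u (φ (KaehlerDifferential.D ℤ _ y))))) * htt
      map_zero' := by simp only [D', map_zero, zero_mul, add_zero]
      map_add' := fun x y => by
        simp only [D', map_add]
        ring }
  have step : ∀ (n : ℕ) (f : ResidueField C →+* C ⧸ maximalIdeal C ^ (n + 2)),
      ∃ f' : ResidueField C →+* C ⧸ maximalIdeal C ^ (n + 1 + 2),
        (Ideal.Quotient.factorPow (maximalIdeal C) (Nat.le_succ (n + 2))).comp f' = f := by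
    intro n f
    let q := Ideal.Quotient.factorPow (maximalIdeal C) (Nat.le_succ (n + 2))
    have hq : Function.Surjective q := fun y => by
      obtain ⟨a, rfl⟩ := Ideal.Quotient.mk_surjective y
      exact ⟨Ideal.Quotient.mk _ a, rfl⟩
    have hI : RingHom.ker q ^ 2 = ⊥ := by
      rw [eq_bot_iff, pow_two, Ideal.mul_le]
      intro x hx y hy
      obtain ⟨a, rfl⟩ := Ideal.Quotient.mk_surjective x
      obtain ⟨b, rfl⟩ := Ideal.Quotient.mk_surjective y
      have ha : a ∈ maximalIdeal C ^ (n + 2) := Ideal.Quotient.eq_zero_iff_mem.1 hx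
      have hb : b ∈ maximalIdeal C ^ (n + 2) := Ideal.Quotient.eq_zero_iff_mem.1 hy
      rw [Ideal.mem_bot, ← map_mul, Ideal.Quotient.eq_zero_iff_mem]
      exact Ideal.pow_le_pow_right (by omega)
        (pow_add (maximalIdeal C) (n + 2) (n + 2) ▸ Ideal.mul_mem_mul ha hb)
    letI : Algebra (ResidueField C) (C ⧸ maximalIdeal C ^ (n + 1 + 2)) :=
      ((Ideal.Quotient.mk _).comp u).toAlgebra
    let e := RingHom.quotientKerEquivOfSurjective hq
    obtain ⟨w, hw⟩ := EGA41Lib.exists_ringHom_lift (k := ResidueField C) (K := ResidueField C)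
      (C ⧸ maximalIdeal C ^ (n + 1 + 2)) _ hI (e.symm.toRingHom.comp f)
    refine ⟨w, RingHom.ext fun x => ?_⟩
    have h1 := congrArg e (RingHom.congr_fun hw x)
    simp only [RingHom.comp_apply, RingEquiv.toRingHom_eq_coe, RingEquiv.coe_toRingHom,
      RingEquiv.apply_symm_apply] at h1
    exact h1
  choose next hnext using step
  let f : (n : ℕ) → ResidueField C →+* C ⧸ maximalIdeal C ^ (n + 2) := fun n =>
    Nat.rec (motive := fun n => ResidueField C →+* C ⧸ maximalIdeal C ^ (n + 2)) g next n
  have ha : StrictMono fun n : ℕ => n + 2 := fun a b h => by simpa using h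
  let v := IsAdicComplete.StrictMono.liftRingHom (maximalIdeal C) ha f fun {n} => hnext n (f n)
  have hv : ∀ n x, Ideal.Quotient.mk (maximalIdeal C ^ (n + 2)) (v x) = f n x := fun n x =>
    IsAdicComplete.StrictMono.mk_liftRingHom (maximalIdeal C) ha _ _ (n := n) x
  have hvs : ∀ x, residue C (v x) = x := by
    intro x
    have h0 : mk2 (v x) = mk2 (u x) + mk2 (u (D' x)) * mk2 t := hv 0 x
    rw [← map_mul, ← map_add, Ideal.Quotient.mk_eq_mk_iff_sub_mem] at h0
    have h1 := Ideal.pow_le_self (by norm_num : (0 + 2 : ℕ) ≠ 0) h0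
    rw [← residue_eq_zero_iff, map_sub, map_add, map_mul, hu, hu,
      (residue_eq_zero_iff t).2 ht, mul_zero, add_zero, sub_eq_zero] at h1
    exact h1
  have h0 : mk2 (u x₀) = mk2 (u x₀) + mk2 (u (D' x₀)) * mk2 t := by
    conv_lhs => rw [← huniq v hvs]
    exact hv 0 x₀
  rw [left_eq_add, ← map_mul, Ideal.Quotient.eq_zero_iff_mem, zero_add] at h0
  have hun : IsUnit (u (D' x₀)) := (IsUnit.mk0 _ hx₀).map u
  exact ht2 ((Ideal.unit_mul_mem_iff_mem _ hun).1 h0)

end Groth.Agent.CoeffFieldUniq
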